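import Cfsg.Agent.EqLemmas

/-!
# Bochert: a primitive group not containing the alternating group has a base of at most half the points

Two elements whose supports meet in one point have a three-cycle as commutator.
-/

set_option autoImplicit false

open Equiv

namespace Cfsg.Agent.ClassBound

variable {α : Type*} [Fintype α] [DecidableEq α]

/-- The commutator of two permutations whose supports meet in exactly one point is a three-cycle. -/
theorem comm_isThreeCycle {g h : Perm α} {a : α} (hga : g a ≠ a) (hha : h a ≠ a)
    (hd : ∀ x, g x ≠ x → h x ≠ x → x = a) : (g * h * g⁻¹ * h⁻¹).IsThreeCycle := by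
  set b := g a with hb
  set c := h a with hc
  have hgc : g c = c := by
    by_contra hne
    exact hha (hd c hne fun e => hha (h.injective e))
  have hhb : h b = b := by
    by_contra hne
    exact hga (hd b (fun e => hga (g.injective e)) hne)
  have hbc : b ≠ c := fun e => hga (g.injective (show g b = g a by rw [e, hgc]; exact e.symm))
  have key : g * h * g⁻¹ * h⁻¹ = swap a c * swap a b := by
    ext x
    simp only [Perm.mul_apply]
    by_cases hxa : x = a
    · subst hxa
      rw [swap_apply_left, swap_apply_of_ne_of_ne hga hbc]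
      set y := h⁻¹ x with hy
      have hhy : h y = x := by simp [hy]
      have hyx : y ≠ x := fun e => hha (by rw [e] at hhy; exact hhy)
      have hgy : g y = y := by
        by_contra hne
        exact hyx (hd y hne (by rw [hhy]; exact hyx.symm))
      rw [show g⁻¹ y = y from Perm.inv_eq_iff_eq.2 hgy.symm, hhy]
    by_cases hxb : x = b
    · subst hxb
      rw [swap_apply_right, swap_apply_left]
      rw [show h⁻¹ b = b from Perm.inv_eq_iff_eq.2 hhb.symm,
        show g⁻¹ b = a from Perm.inv_eq_iff_eq.2 hb, ← hc, hgc]
    by_cases hxc : x = c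
    · subst hxc
      rw [swap_apply_of_ne_of_ne hha hbc.symm, swap_apply_right]
      rw [show h⁻¹ c = a from Perm.inv_eq_iff_eq.2 hc]
      set y := g⁻¹ a with hy
      have hgy : g y = a := by simp [hy]
      have hya : y ≠ a := fun e => hga (by rw [e] at hgy; exact hgy)
      have hhy : h y = y := by
        by_contra hne
        exact hya (hd y (by rw [hgy]; exact hya.symm) hne)
      rw [hhy, hgy]
    rw [swap_apply_of_ne_of_ne hxa hxb, swap_apply_of_ne_of_ne hxa hxc]
    by_cases hhx : h x = x
    · rw [show h⁻¹ x = x from Perm.inv_eq_iff_eq.2 hhx.symm]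
      set z := g⁻¹ x with hz
      have hgz : g z = x := by simp [hz]
      have hhz : h z = z := by
        by_contra hne
        by_cases hgzz : g z = z
        · exact hne (by rw [hgz] at hgzz; rw [← hgzz]; exact hhx)
        · exact hxb (by rw [← hgz, hd z hgzz hne])
      rw [hhz, hgz]
    · have hgx : g x = x := by
        by_contra hne
        exact hxa (hd x hne hhx)
      set y := h⁻¹ x with hy
      have hhy : h y = x := by simp [hy]
      have hgy : g y = y := by
        by_contra hne
        have hya : y = a := hd y hne fun e => hhx (by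
          rw [hhy] at e
          rw [← e] at hhy
          exact hhy)
        exact hxc (by rw [← hhy, hya])
      rw [show g⁻¹ y = y from Perm.inv_eq_iff_eq.2 hgy.symm, hhy, hgx]
  rw [key]
  exact Perm.isThreeCycle_swap_mul_swap_same (Ne.symm hha) (Ne.symm hga) hbc.symm

/-- A primitive group not containing the alternating group has a base of at most half the points. -/
theorem exists_small_base (G : Subgroup (Perm α)) (hG : MulAction.IsPreprimitive G α)
    (hA : ¬ alternatingGroup α ≤ G) :
    ∃ B : Finset α, 2 * B.card ≤ Fintype.card α ∧ ∀ g ∈ G, (∀ x ∈ B, g x = x) → g = 1 := by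
  classical
  let IsBase : Finset α → Prop := fun B => ∀ g ∈ G, (∀ x ∈ B, g x = x) → g = 1
  have hex : ∃ k, ∃ B : Finset α, B.card = k ∧ IsBase B :=
    ⟨_, Finset.univ, rfl, fun g _ hg => Perm.ext fun x => hg x (Finset.mem_univ x)⟩
  obtain ⟨B, hcard, hB⟩ := Nat.find_spec hex
  refine ⟨B, ?_, hB⟩
  by_contra hlt
  push Not at hlt
  have hmin : ∀ B' : Finset α, B'.card < B.card → ¬ IsBase B' := fun B' h' hb' =>
    Nat.find_min hex (hcard ▸ h') ⟨B', rfl, hb'⟩
  have hC : ¬ IsBase Bᶜ := hmin _ (by rw [Finset.card_compl]; omega)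
  simp only [IsBase, not_forall] at hC
  obtain ⟨g, hgG, hgC, hg1⟩ := hC
  obtain ⟨a, hga⟩ : ∃ a, g a ≠ a := by
    by_contra! hall
    exact hg1 (Perm.ext hall)
  have haB : a ∈ B := by
    by_contra hne
    exact hga (hgC a (Finset.mem_compl.2 hne))
  have hE := hmin _ (Finset.card_erase_lt_of_mem haB)
  simp only [IsBase, not_forall] at hE
  obtain ⟨h, hhG, hhE, hh1⟩ := hE
  have hha : h a ≠ a := fun e => hh1 (hB h hhG fun x hx => by
    by_cases hxa : x = a
    · rw [hxa, e]
    · exact hhE x (Finset.mem_erase.2 ⟨hxa, hx⟩))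
  refine hA (Equiv.Perm.alternatingGroup_le_of_isPreprimitive_of_isThreeCycle_mem hG
    (comm_isThreeCycle hga hha fun x hgx hhx => ?_)
    (G.mul_mem (G.mul_mem (G.mul_mem hgG hhG) (G.inv_mem hgG)) (G.inv_mem hhG)))
  by_contra hxa
  refine hhx (hhE x (Finset.mem_erase.2 ⟨hxa, ?_⟩))
  by_contra hxB
  exact hgx (hgC x (Finset.mem_compl.2 hxB))

end Cfsg.Agent.ClassBound
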