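import Cfsg.Agent.Lib.ClassBound.Base
import Cfsg.Agent.S4198
import Cfsg.Agent.S4200
import Cfsg.Agent.S4201

/-!
# A permutation group of degree `n` with `r` orbits has at most `5 ^ (n - r)` classes

Primitive case: reduce to the setwise stabiliser of a base of at most half the points.
-/

set_option autoImplicit false

open scoped Pointwise
open MulAction

namespace Cfsg.Agent.ClassBound

/-- Class numbers along an exact sequence. -/
theorem classes_le_ker_mul_range {G H : Type} [Group G] [Finite G] [Group H] (f : G →* H) :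
    Nat.card (ConjClasses G) ≤ Nat.card (ConjClasses f.ker) * Nat.card (ConjClasses f.range) := by
  refine (S4201.result f.ker).trans_eq ?_
  congr 1
  let e := QuotientGroup.quotientKerEquivRange f
  refine Nat.card_congr
    { toFun := ConjClasses.map e.toMonoidHom
      invFun := ConjClasses.map e.symm.toMonoidHom
      left_inv := fun x => ?_
      right_inv := fun x => ?_ }
  all_goals
    obtain ⟨g, rfl⟩ := ConjClasses.mk_surjective x
    show ConjClasses.mk _ = _
    simp

theorem classes_of_subsingleton (G : Type) [Group G] [Subsingleton G] :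
    Nat.card (ConjClasses G) = 1 := by
  have : Subsingleton (ConjClasses G) :=
    Function.Surjective.subsingleton (ConjClasses.mk_surjective)
  exact Nat.card_of_subsingleton (ConjClasses.mk 1)

theorem card_partition_le (n : ℕ) : Nat.card (Nat.Partition (n + 1)) ≤ 2 ^ n := by
  induction n with
  | zero => simp
  | succ n ih =>
    calc _ ≤ 2 * Nat.card (Nat.Partition (n + 1)) := S4198.card_partition_succ_le (n + 1)
      _ ≤ 2 * 2 ^ n := Nat.mul_le_mul_left _ ih
      _ = _ := (pow_succ' 2 n).symm

/-- The bound, for faithful actions of degree `n`. -/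
def Bound (n : ℕ) : Prop :=
  ∀ (G α : Type) [Group G] [Finite G] [Finite α] [MulAction G α] [FaithfulSMul G α],
    Nat.card α = n → Nat.card (ConjClasses G) ≤ 5 ^ (n - Nat.card (orbitRel.Quotient G α))

theorem card_quotient_of_transitive (G α : Type) [Group G] [MulAction G α] [IsPretransitive G α]
    [Nonempty α] : Nat.card (orbitRel.Quotient G α) = 1 := by
  have : Subsingleton (orbitRel.Quotient G α) := ⟨fun a b => by
    induction a using Quotient.inductionOn'
    induction b using Quotient.inductionOn'
    exact Quotient.sound' (orbitRel_apply.2 (mem_orbit_iff.2 (exists_smul_eq G _ _)))⟩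
  obtain ⟨x⟩ := ‹Nonempty α›
  exact Nat.card_of_subsingleton (Quotient.mk'' x)

/-- Intransitive groups. -/
theorem bound_intransitive {n : ℕ} (ih : ∀ m < n, Bound m) (G α : Type) [Group G] [Finite G]
    [Finite α] [MulAction G α] [FaithfulSMul G α] (hn : Nat.card α = n)
    (hr : 2 ≤ Nat.card (orbitRel.Quotient G α)) :
    Nat.card (ConjClasses G) ≤ 5 ^ (n - Nat.card (orbitRel.Quotient G α)) := by
  classical
  cases nonempty_fintype α
  have : Nontrivial (orbitRel.Quotient G α) := by
    rw [← Finite.one_lt_card_iff_nontrivial]; omega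
  obtain ⟨q, q', hqq⟩ := exists_pair_ne (orbitRel.Quotient G α)
  obtain ⟨a, rfl⟩ := Quotient.mk''_surjective q
  obtain ⟨a', rfl⟩ := Quotient.mk''_surjective q'
  let O : SubMulAction G α := ⟨orbit G a, fun g x hx => by
    obtain ⟨k, rfl⟩ := hx; exact ⟨g * k, mul_smul g k a⟩⟩
  have ha' : a' ∉ O := fun h => hqq (Quotient.sound' (orbitRel_apply.2 (mem_orbit_symm.1 h)))
  let f : G →* Equiv.Perm O := MulAction.toPermHom G O
  have hfO : ∀ (k : f.ker) (x : O), (k : G) • (x : α) = x := fun k x =>
    congrArg Subtype.val (Equiv.ext_iff.1 (MonoidHom.mem_ker.1 k.2) x)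
  let C : SubMulAction f.ker α := ⟨(orbit G a)ᶜ, fun k x hx => by
    intro h
    refine hx ?_
    obtain ⟨g, hg⟩ := h
    exact ⟨(k : G)⁻¹ * g, by
      show ((k : G)⁻¹ * g) • a = x
      rw [mul_smul]
      show (k : G)⁻¹ • (g • a) = x
      rw [show g • a = k • x from hg, show k • x = (k : G) • x from rfl, inv_smul_smul]⟩⟩
  have : FaithfulSMul f.ker C := ⟨fun {k k'} h => Subtype.ext (eq_of_smul_eq_smul (α := α) fun x => by
    by_cases hx : x ∈ O
    · rw [hfO k ⟨x, hx⟩, hfO k' ⟨x, hx⟩]
    · exact congrArg Subtype.val (h ⟨x, hx⟩))⟩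
  have hsum : Nat.card O + Nat.card C = n := by
    rw [← Nat.card_sum, ← hn]
    exact Nat.card_congr (Equiv.Set.sumCompl (orbit G a))
  have : Nonempty O := ⟨⟨a, mem_orbit_self a⟩⟩
  have : Nonempty C := ⟨⟨a', ha'⟩⟩
  have hO0 : 0 < Nat.card O := Nat.card_pos
  have hC0 : 0 < Nat.card C := Nat.card_pos
  -- the image
  have : IsPretransitive f.range O := ⟨fun x y => by
    obtain ⟨g, hg⟩ := x.2
    obtain ⟨g', hg'⟩ := y.2
    refine ⟨⟨f (g' * g⁻¹), _, rfl⟩, Subtype.ext ?_⟩
    show (g' * g⁻¹) • (x : α) = y
    rw [← hg, ← hg']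
    show (g' * g⁻¹) • (g • a) = g' • a
    rw [← mul_smul, inv_mul_cancel_right]⟩
  have h1 : Nat.card (ConjClasses f.range) ≤ 5 ^ (Nat.card O - 1) := by
    have := ih (Nat.card O) (by omega) f.range O rfl
    rwa [card_quotient_of_transitive] at this
  -- the kernel
  have h2 := ih (Nat.card C) (by omega) f.ker C rfl
  -- the orbits
  have h3 : Nat.card (orbitRel.Quotient G α) ≤ Nat.card (orbitRel.Quotient f.ker C) + 1 := by
    let g : Option (orbitRel.Quotient f.ker C) → orbitRel.Quotient G α := fun o =>
      o.elim (Quotient.mk'' a) (Quotient.map' (fun x : C => (x : α)) fun x y hxy => by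
        obtain ⟨k, hk⟩ := orbitRel_apply.1 hxy
        exact orbitRel_apply.2 ⟨(k : G), congrArg Subtype.val hk⟩)
    have hg : Function.Surjective g := fun q => by
      obtain ⟨x, rfl⟩ := Quotient.mk''_surjective q
      by_cases hx : x ∈ O
      · exact ⟨none, Quotient.sound' (orbitRel_apply.2 (mem_orbit_symm.1 hx))⟩
      · exact ⟨some (Quotient.mk'' ⟨x, hx⟩), rfl⟩
    exact (Nat.card_le_card_of_surjective g hg).trans Finite.card_option.le
  refine (classes_le_ker_mul_range f).trans ?_
  refine (Nat.mul_le_mul h2 h1).trans ?_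
  rw [← pow_add]
  refine Nat.pow_le_pow_right (by norm_num) ?_
  have h4 : Nat.card (orbitRel.Quotient f.ker C) ≤ Nat.card C :=
    Nat.card_le_card_of_surjective _ Quotient.mk''_surjective
  omega

/-- Transitive, imprimitive groups. -/
theorem bound_imprimitive {n : ℕ} (ih : ∀ m < n, Bound m) (G α : Type) [Group G] [Finite G]
    [Finite α] [MulAction G α] [FaithfulSMul G α] [IsPretransitive G α] (hn : Nat.card α = n)
    (hp : ¬ IsPreprimitive G α) : Nat.card (ConjClasses G) ≤ 5 ^ (n - 1) := by
  classical
  obtain ⟨B, hB, hBt⟩ : ∃ B : Set α, IsBlock G B ∧ ¬ IsTrivialBlock B := by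
    by_contra! hall
    exact hp { isTrivialBlock_of_isBlock := fun {B} hB => hall B hB }
  rw [IsTrivialBlock, not_or, Set.not_subsingleton_iff] at hBt
  obtain ⟨hB2, hBu⟩ := hBt
  have hBne : B.Nonempty := hB2.nonempty
  have hkey := hB.ncard_block_mul_ncard_orbit_eq hBne
  rw [hn] at hkey
  have hBm : 2 ≤ B.ncard := (Set.one_lt_ncard_iff_nontrivial).2 hB2
  let Ω := orbit G B
  have hΩ : Nat.card Ω = (orbit G B).ncard := Nat.card_coe_set_eq _
  have : Nonempty Ω := ⟨⟨B, mem_orbit_self B⟩⟩
  have hΩ0 : 0 < Nat.card Ω := Nat.card_pos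
  have hΩn : Nat.card Ω < n := by
    rw [← hkey, hΩ]; rw [hΩ] at hΩ0; nlinarith
  have hΩ2 : 2 ≤ Nat.card Ω := by
    by_contra hlt
    refine hBu (Set.eq_univ_of_forall fun x => ?_)
    obtain ⟨b, hb⟩ := hBne
    obtain ⟨g, rfl⟩ := exists_smul_eq G b x
    have : Subsingleton Ω := Finite.card_le_one_iff_subsingleton.1 (by omega)
    have he : g • B = B := congrArg Subtype.val
      (Subsingleton.elim (⟨g • B, mem_orbit B g⟩ : Ω) ⟨B, mem_orbit_self B⟩)
    rw [← he]
    exact Set.smul_mem_smul_set hb
  let f : G →* Equiv.Perm Ω := MulAction.toPermHom G Ω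
  have : IsPretransitive f.range Ω := ⟨fun x y => by
    obtain ⟨g, hg⟩ := exists_smul_eq G x y
    exact ⟨⟨f g, g, rfl⟩, hg⟩⟩
  have h1 : Nat.card (ConjClasses f.range) ≤ 5 ^ (Nat.card Ω - 1) := by
    have := ih (Nat.card Ω) hΩn f.range Ω rfl
    rwa [card_quotient_of_transitive] at this
  have : FaithfulSMul f.ker α := ⟨fun {k k'} h => Subtype.ext (eq_of_smul_eq_smul (α := α) h)⟩
  have hfix : ∀ (k : f.ker) (x : Ω), (k : G) • (x : Set α) = x := fun k x =>
    congrArg Subtype.val (Equiv.ext_iff.1 (MonoidHom.mem_ker.1 k.2) x)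
  have h3 : Nat.card Ω ≤ Nat.card (orbitRel.Quotient f.ker α) := by
    have hne : ∀ x : Ω, (x : Set α).Nonempty := fun x => by
      obtain ⟨g, hg⟩ := x.2
      rw [← hg]
      exact hBne.smul_set
    obtain ⟨c, hc⟩ := Classical.axiomOfChoice hne
    refine Nat.card_le_card_of_injective (fun x : Ω => Quotient.mk'' (c x)) fun x y hxy => ?_
    obtain ⟨k, hk⟩ := orbitRel_apply.1 (Quotient.eq''.1 hxy)
    have hx : c x ∈ (y : Set α) := by
      have hm := Set.smul_mem_smul_set (a := (k : G)) (hc y)
      rw [hfix k y, show (k : G) • c y = c x from hk] at hm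
      exact hm
    obtain ⟨g, hg⟩ := x.2
    obtain ⟨g', hg'⟩ := y.2
    apply Subtype.ext
    have hcx := hc x
    rw [← hg] at hcx ⊢
    rw [← hg'] at hx ⊢
    exact hB.smul_eq_smul_of_nonempty ⟨c x, hcx, hx⟩
  have h2 := bound_intransitive ih f.ker α hn (hΩ2.trans h3)
  have h4 : Nat.card (orbitRel.Quotient f.ker α) ≤ Nat.card α :=
    Nat.card_le_card_of_surjective _ Quotient.mk''_surjective
  refine (classes_le_ker_mul_range f).trans ((Nat.mul_le_mul h2 h1).trans ?_)
  rw [← pow_add]
  exact Nat.pow_le_pow_right (by norm_num) (by omega)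

/-- Primitive groups. -/
theorem bound_primitive {n : ℕ} (ih : ∀ m < n, Bound m) (α : Type) [Fintype α] [DecidableEq α]
    (G : Subgroup (Equiv.Perm α)) (hn : Nat.card α = n) (hG : IsPreprimitive G α) :
    Nat.card (ConjClasses G) ≤ 5 ^ (n - 1) := by
  classical
  rw [Nat.card_eq_fintype_card] at hn
  by_cases hA : alternatingGroup α ≤ G
  · rcases Nat.lt_or_ge n 2 with h2 | h2
    · have : Subsingleton α := Fintype.card_le_one_iff_subsingleton.1 (by omega)
      rw [classes_of_subsingleton]
      exact Nat.one_le_pow _ _ (by norm_num)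
    · have : Nontrivial α := Fintype.one_lt_card_iff_nontrivial.1 (by omega)
      have hi : G.index ≤ 2 :=
        (Nat.le_of_dvd two_pos (alternatingGroup.index_eq_two (α := α) ▸ Subgroup.index_dvd_of_le hA))
      refine (S4200.result G).1.trans ?_
      obtain ⟨m, rfl⟩ : ∃ m, n = m + 2 := ⟨n - 2, by omega⟩
      refine (Nat.mul_le_mul hi (S4198.card_conjClasses_perm_le.trans
        (hn.symm ▸ card_partition_le (m + 1)))).trans ?_
      rw [show m + 2 - 1 = m + 1 by omega, pow_succ (5 : ℕ), pow_succ (2 : ℕ)]
      have := Nat.pow_le_pow_left (show 2 ≤ 5 by norm_num) m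
      nlinarith [Nat.zero_le (5 ^ m)]
  · obtain ⟨B, hB, hbase⟩ := exists_small_base G hG hA
    rcases Nat.eq_zero_or_pos B.card with h0 | h0
    · have : Subsingleton G := ⟨fun a b => Subtype.ext <| by
        rw [hbase a a.2 (by simp [Finset.card_eq_zero.1 h0]),
          hbase b b.2 (by simp [Finset.card_eq_zero.1 h0])]⟩
      rw [classes_of_subsingleton]
      exact Nat.one_le_pow _ _ (by norm_num)
    · let S : Subgroup G := stabilizer G (B : Set α)
      let Bs : SubMulAction S α := ⟨(B : Set α), fun s x hx => by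
        have h := Set.smul_mem_smul_set (a := (s : G)) hx
        rwa [show (s : G) • (B : Set α) = B from mem_stabilizer_iff.1 s.2] at h⟩
      have : FaithfulSMul S Bs := ⟨fun {s s'} h => by
        have hk := hbase _ (G.mul_mem (G.inv_mem (s' : G).2) (s : G).2) fun x hx => by
          have := congrArg Subtype.val (h ⟨x, hx⟩)
          rw [Equiv.Perm.mul_apply]
          exact Equiv.Perm.inv_eq_iff_eq.2 this
        exact Subtype.ext (Subtype.ext (inv_mul_eq_one.1 hk).symm)⟩
      have : Nonempty Bs := by
        obtain ⟨x, hx⟩ := Finset.card_pos.1 h0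
        exact ⟨⟨x, hx⟩⟩
      have hBs : Nat.card Bs = B.card := by
        rw [show Nat.card Bs = Nat.card {x // x ∈ B} from rfl, Nat.card_eq_fintype_card,
          Fintype.card_coe]
      have hk : Nat.card (ConjClasses S) ≤ 5 ^ (B.card - 1) := by
        have := ih B.card (by omega) S Bs hBs
        refine this.trans (Nat.pow_le_pow_right (by norm_num) ?_)
        have : Nonempty (orbitRel.Quotient S Bs) := ‹Nonempty Bs›.map Quotient.mk''
        have : 0 < Nat.card (orbitRel.Quotient S Bs) := Nat.card_pos
        omega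
      have hidx : S.index ≤ 2 ^ n := by
        rw [index_stabilizer, ← hn, ← Fintype.card_set (α := α), ← Nat.card_eq_fintype_card]
        exact Nat.card_le_card_of_injective _ Subtype.val_injective |>.trans_eq' (Nat.card_coe_set_eq _)
      refine (S4200.result S).2.1.trans ((Nat.mul_le_mul hidx hk).trans ?_)
      obtain ⟨e, he⟩ : ∃ e, n = B.card + e := ⟨n - B.card, by omega⟩
      rw [he, show B.card + e - 1 = e + (B.card - 1) by omega, pow_add (5 : ℕ)]
      refine Nat.mul_le_mul_right _ ?_
      calc 2 ^ (B.card + e) ≤ 2 ^ (2 * e) := Nat.pow_le_pow_right (by norm_num) (by omega)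
        _ = 4 ^ e := by rw [pow_mul]; norm_num
        _ ≤ 5 ^ e := Nat.pow_le_pow_left (by norm_num) e

/-- The bound holds in every degree. -/
theorem bound (n : ℕ) : Bound n := by
  induction n using Nat.strong_induction_on with
  | _ n ih =>
    intro G α _ _ _ _ _ hn
    classical
    cases nonempty_fintype α
    rcases isEmpty_or_nonempty α with hα | hα
    · have : Subsingleton G := ⟨fun a b => eq_of_smul_eq_smul fun x : α => isEmptyElim x⟩
      rw [classes_of_subsingleton]
      exact Nat.one_le_pow _ _ (by norm_num)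
    have : Nonempty (orbitRel.Quotient G α) := hα.map Quotient.mk''
    have hpos : 0 < Nat.card (orbitRel.Quotient G α) := Nat.card_pos
    rcases Nat.lt_or_ge 1 (Nat.card (orbitRel.Quotient G α)) with hr | hr
    · exact bound_intransitive ih G α hn hr
    have h1 : Nat.card (orbitRel.Quotient G α) = 1 := by omega
    rw [h1]
    have : IsPretransitive G α := pretransitive_iff_subsingleton_quotient G α |>.2
      (Finite.card_le_one_iff_subsingleton.1 hr)
    by_cases hp : IsPreprimitive G α
    · let f : G →* Equiv.Perm α := MulAction.toPermHom G α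
      have hf : Function.Injective f := fun a b h => eq_of_smul_eq_smul (α := α) (Equiv.ext_iff.1 h)
      have hprim : IsPreprimitive f.range α := by
        have hsurj : Function.Surjective (id : α → α) := fun x => ⟨x, rfl⟩
        exact IsPreprimitive.of_surjective (f := (⟨id, fun g x => rfl⟩ :
          α →ₑ[(f.rangeRestrict : G → f.range)] α)) hsurj
      refine le_trans (le_of_eq ?_) (bound_primitive ih α f.range hn hprim)
      refine Nat.card_congr
        { toFun := ConjClasses.map (MonoidHom.ofInjective hf).toMonoidHom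
          invFun := ConjClasses.map (MonoidHom.ofInjective hf).symm.toMonoidHom
          left_inv := fun x => ?_
          right_inv := fun x => ?_ }
      all_goals
        obtain ⟨g, rfl⟩ := ConjClasses.mk_surjective x
        show ConjClasses.mk _ = _
        simp
    · exact bound_imprimitive ih G α hn hp

end Cfsg.Agent.ClassBound
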